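import Cfsg.Agent.Lib.Spor.Cos.ON.Order

/-!
The subgroup of the six nodes in the O'Nan group.
-/

set_option autoImplicit false
set_option maxRecDepth 100000

open Cfsg.Spor

namespace Cfsg.Agent.Spor.Cos.ON

theorem mk_node (a : Spor.ON.Gen) :
    PresentedGroup.mk (coxRelators Spor.ON.edges ∪ {r | r ∈ Spor.ON.extra}) (FreeGroup.of a) = x a := rfl

theorem nodes_eq : (Subgroup.closure ({Spor.ON.a, Spor.ON.b, Spor.ON.c, Spor.ON.d, Spor.ON.e, Spor.ON.f} :
    Set (FreeGroup Spor.ON.Gen))).map (PresentedGroup.mk (coxRelators Spor.ON.edges ∪ {r | r ∈ Spor.ON.extra})) =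
      val g lv1W := by
  rw [MonoidHom.map_closure, val]
  congr 1
  ext y
  simp only [Set.image_insert_eq, Set.image_singleton, Set.mem_insert_iff, Set.mem_singleton_iff, Spor.ON.a,
    Spor.ON.b, Spor.ON.c, Spor.ON.d, Spor.ON.e, Spor.ON.f, mk_node, Set.mem_setOf_eq, lv1W, List.mem_cons,
    List.not_mem_nil, or_false, exists_eq_or_imp, exists_eq_left, ev, mul_one, g, List.getD_cons_zero,
    List.getD_cons_succ, eq_comm (b := y)]

theorem index_nodes : (val g lv1W).index = 122760 := by
  rw [stabA]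
  exact Wide.index_stab trA

theorem card_nodes : Nat.card (val g lv1W) = 3753792 := by
  rw [stabA]
  exact Wide.card_stab trA (k := 3753792) card_eq

end Cfsg.Agent.Spor.Cos.ON
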