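import Cfsg.Agent.Lib.Spor.Cos.ON.HSub
import Cfsg.Agent.Lib.Classical.SLGroup

/-!
The subgroup of the six nodes as automorphisms of a three-dimensional linear group over seven elements.
-/

set_option autoImplicit false
set_option maxRecDepth 100000
set_option maxHeartbeats 4000000

open Matrix

namespace Cfsg.Agent.Spor.Cos.ON

/-- The matrices. -/
abbrev M3 : Type := Matrix (Fin 3) (Fin 3) (ZMod 7)

/-- Six symmetric matrices. -/
def symM : List M3 := [!![1, 0, 0; 0, 1, 0; 0, 0, 1], !![4, 3, 2; 3, 6, 3; 2, 3, 4], !![6, 0, 6; 0, 3, 0; 6, 0, 1], !![0, 0, 1; 0, 6, 0; 1, 0, 0], !![3, 4, 5; 4, 3, 5; 5, 5, 0], !![6, 0, 0; 0, 1, 0; 0, 0, 6]]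

/-- Their inverses. -/
def symI : List M3 := [!![1, 0, 0; 0, 1, 0; 0, 0, 1], !![1, 1, 4; 1, 5, 1; 4, 1, 1], !![3, 0, 3; 0, 5, 0; 3, 0, 4], !![0, 0, 1; 0, 6, 0; 1, 0, 0], !![3, 4, 5; 4, 3, 5; 5, 5, 0], !![6, 0, 0; 0, 1, 0; 0, 0, 6]]

/-- A symmetric matrix by number. -/
def mA (s : ℕ) : M3 := symM.getD s 1

/-- Its inverse. -/
def mI (s : ℕ) : M3 := symI.getD s 1

theorem mA_spec : ∀ s : Fin 6, mA s.1 * mI s.1 = 1 ∧ mI s.1 * mA s.1 = 1 ∧ (mA s.1)ᵀ = mA s.1 ∧ (mI s.1)ᵀ = mI s.1 := by
  decide +kernel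

theorem twist_involutive {s : ℕ} (h : s < 6) : Function.Involutive fun X : M3 => -(mA s * Xᵀ * mI s) := by
  intro X
  obtain ⟨h1, h2, h3, h4⟩ := mA_spec ⟨s, h⟩
  dsimp only at h1 h2 h3 h4 ⊢
  rw [Matrix.transpose_neg, Matrix.transpose_mul, Matrix.transpose_mul, Matrix.transpose_transpose, h3, h4]
  simp only [mul_neg, neg_mul, neg_neg]
  calc mA s * (mI s * (X * mA s)) * mI s = (mA s * mI s) * X * (mA s * mI s) := by simp only [mul_assoc]
    _ = X := by rw [h1, one_mul, mul_one]

/-- A twisted conjugation. -/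
def sigma6 (s : ℕ) : Equiv.Perm M3 :=
  if h : s < 6 then ⟨fun X => -(mA s * Xᵀ * mI s), fun X => -(mA s * Xᵀ * mI s), twist_involutive h, twist_involutive h⟩
  else 1

theorem sigma6_apply {s : ℕ} (h : s < 6) (X : M3) : sigma6 s X = -(mA s * Xᵀ * mI s) := by
  rw [sigma6, dif_pos h]
  rfl

theorem sigma6_sq (s : ℕ) : sigma6 s * sigma6 s = 1 := by
  by_cases h : s < 6
  · refine Equiv.ext fun X => ?_
    rw [Equiv.Perm.mul_apply, sigma6_apply h, sigma6_apply h]
    exact twist_involutive h X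
  · simp [sigma6, h]

/-- The matrix of a word of even length. -/
def evenMat : List ℕ → M3
  | s :: t :: w => mA s * mI t * evenMat w
  | _ => 1

/-- Its inverse. -/
def evenInv : List ℕ → M3
  | s :: t :: w => evenInv w * (mA t * mI s)
  | _ => 1

theorem even_spec : ∀ w : List ℕ, (∀ s ∈ w, s < 6) → w.length % 2 = 0 →
    evenMat w * evenInv w = 1 ∧ ∀ X, ev sigma6 w X = evenMat w * X * evenInv w
  | [], _, _ => by simp [evenMat, evenInv, ev]
  | [s], _, h => by simp at h
  | s :: t :: w, hw, hl => by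
    have hs : s < 6 := hw s (by simp)
    have ht : t < 6 := hw t (by simp)
    obtain ⟨i1, i2⟩ := even_spec w (fun a ha => hw a (by simp [ha])) (by simp only [List.length_cons] at hl; omega)
    obtain ⟨a1, -, -, -⟩ := mA_spec ⟨s, hs⟩
    obtain ⟨-, b2, b3, b4⟩ := mA_spec ⟨t, ht⟩
    refine ⟨?_, fun X => ?_⟩
    · simp only [evenMat, evenInv]
      calc mA s * mI t * evenMat w * (evenInv w * (mA t * mI s))
          = mA s * mI t * (evenMat w * evenInv w) * (mA t * mI s) := by simp only [mul_assoc]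
        _ = mA s * (mI t * mA t) * mI s := by rw [i1, mul_one]; simp only [mul_assoc]
        _ = 1 := by rw [b2, mul_one, a1]
    · simp only [ev, Equiv.Perm.mul_apply, evenMat, evenInv]
      rw [i2, sigma6_apply ht, sigma6_apply hs, Matrix.transpose_neg, mul_neg, neg_mul, neg_neg,
        Matrix.transpose_mul, Matrix.transpose_mul, Matrix.transpose_transpose, b3, b4]
      simp only [mul_assoc]

/-- A word acts trivially. -/
def trivialOk (w : List ℕ) : Bool :=
  (w.all fun s => Nat.blt s 6) && Nat.beq (w.length % 2) 0 && (List.range 7).any fun c => evenMat w == (c : ZMod 7) • (1 : M3)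

theorem ev_trivial {w : List ℕ} (h : trivialOk w = true) : ev sigma6 w = 1 := by
  simp only [trivialOk, Bool.and_eq_true, List.all_eq_true, List.any_eq_true, beq_iff_eq] at h
  obtain ⟨⟨hw, hl⟩, c, -, hc⟩ := h
  obtain ⟨i1, i2⟩ := even_spec w (fun s hs => Nat.le_of_ble_eq_true (hw s hs)) (Nat.eq_of_beq_eq_true hl)
  refine Equiv.ext fun X => ?_
  rw [i2, Equiv.Perm.one_apply]
  calc evenMat w * X * evenInv w = X * (evenMat w * evenInv w) := by
        rw [hc, smul_mul_assoc, one_mul, ← mul_assoc, mul_smul_comm, mul_one]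
    _ = X := by rw [i1, mul_one]

/-- The relations in six letters. -/
def words6 : List (List ℕ) := words.filter fun w => w.all fun s => Nat.blt s 6

theorem bound_six {G : Type*} [Group G] (h : ℕ → G) (hs : ∀ s, h s * h s = 1) (hw : ∀ w ∈ words6, ev h w = 1) :
    Bound h [0, 1, 2, 3, 4, 5] 3753792 := by
  have e1 := ev_eq_one_of_loop r1 r1_defs r1_facts hs [0, 1, 2, 3, 4, 5] 7
    (hbase_of hs hw (n := 7) (by decide +kernel)) r1_derived rfl r1_loop
  have hw1 : ∀ w ∈ (r1Goal.map fun i => [0, 1, 2, 3, 4, 5].getD i 7) :: words6, ev h w = 1 := by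
    intro w hm
    rcases List.mem_cons.1 hm with rfl | hm
    exacts [e1, hw w hm]
  have e2 := ev_eq_one_of_loop r2 r2_defs r2_facts hs [0, 1, 2, 3, 4, 5] 7
    (hbase_of hs hw1 (n := 7) (by decide +kernel)) r2_derived rfl r2_loop
  have hw2 : ∀ w ∈ (r2Goal.map fun i => [0, 1, 2, 3, 4, 5].getD i 7) ::
      (r1Goal.map fun i => [0, 1, 2, 3, 4, 5].getD i 7) :: words6, ev h w = 1 := by
    intro w hm
    rcases List.mem_cons.1 hm with rfl | hm
    exacts [e2, hw1 w hm]
  have h0 : Bound h [] 1 := Bound.nil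
  have h1 : Bound h [0, 1] 6 := Bound.step (d := 7) hs h0 s3 s3_checks rfl (by decide +kernel)
    (hbase_of hs hw2 (n := 7) (by decide +kernel)) s3_derived
  have h2 : Bound h [0, 1, 2] 24 := Bound.step (d := 7) hs h1 s4 s4_checks rfl (by decide +kernel)
    (hbase_of hs hw2 (n := 7) (by decide +kernel)) s4_derived
  have h3 : Bound h [0, 1, 2, 3] 672 := Bound.step (d := 7) hs h2 low low_checks rfl (by decide +kernel)
    (hbase_of hs hw2 (n := 7) (by decide +kernel)) low_derived
  exact Bound.step (d := 7) hs h3 mid mid_checks rfl (by decide +kernel)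
    (hbase_of hs hw2 (n := 7) (by decide +kernel)) mid_derived

/-- The six nodes with their twisted conjugations. -/
noncomputable def both (s : ℕ) : Spor.ON × Equiv.Perm M3 := if s < 6 then (g s, sigma6 s) else 1

theorem both_sq (s : ℕ) : both s * both s = 1 := by
  unfold both
  split_ifs
  exacts [Prod.ext (g_sq s) (sigma6_sq s), one_mul 1]

theorem ev_both : ∀ w : List ℕ, (∀ s ∈ w, s < 6) → ev both w = (ev g w, ev sigma6 w)
  | [], _ => rfl
  | s :: w, h => by
    rw [ev, ev_both w fun t ht => h t (List.mem_cons_of_mem _ ht), both, if_pos (h s (List.mem_cons_self ..))]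
    rfl

theorem both_words : ∀ w ∈ words6, ev both w = 1 := by
  intro w hw
  have hl : ∀ s ∈ w, s < 6 := fun s hs =>
    Nat.le_of_ble_eq_true (List.all_eq_true.1 (List.mem_filter.1 hw).2 s hs)
  have h2 : (words6.all trivialOk) = true := by decide +kernel
  rw [ev_both w hl, g_words w (List.mem_filter.1 hw).1, ev_trivial (List.all_eq_true.1 h2 w hw)]
  rfl

/-- The subgroup generated by the six pairs. -/
noncomputable def graph6 : Subgroup (Spor.ON × Equiv.Perm M3) := val both (singles [0, 1, 2, 3, 4, 5])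

theorem fst_graph6 : graph6.map (MonoidHom.fst _ _) = val g lv1W := by
  rw [graph6, val, val, MonoidHom.map_closure]
  congr 1
  ext y
  have hl : lv1W = singles [0, 1, 2, 3, 4, 5] := rfl
  simp only [Set.mem_image, Set.mem_setOf_eq, hl]
  constructor
  · rintro ⟨_, ⟨w, hw, rfl⟩, rfl⟩
    refine ⟨w, hw, ?_⟩
    rw [ev_both w (by revert w; decide)]
    rfl
  · rintro ⟨w, hw, rfl⟩
    refine ⟨_, ⟨w, hw, rfl⟩, ?_⟩
    rw [ev_both w (by revert w; decide)]
    rfl

/-- Conjugation of matrices. -/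
def conjM : Matrix.SpecialLinearGroup (Fin 3) (ZMod 7) →* Equiv.Perm M3 where
  toFun A :=
    { toFun := fun X => (A : M3) * X * ((A⁻¹ : Matrix.SpecialLinearGroup (Fin 3) (ZMod 7)) : M3)
      invFun := fun X => ((A⁻¹ : Matrix.SpecialLinearGroup (Fin 3) (ZMod 7)) : M3) * X * (A : M3)
      left_inv := fun X => by
        dsimp only
        rw [← mul_assoc, ← mul_assoc, ← Matrix.SpecialLinearGroup.coe_mul, inv_mul_cancel,
          Matrix.SpecialLinearGroup.coe_one, one_mul, mul_assoc, ← Matrix.SpecialLinearGroup.coe_mul, inv_mul_cancel,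
          Matrix.SpecialLinearGroup.coe_one, mul_one]
      right_inv := fun X => by
        dsimp only
        rw [← mul_assoc, ← mul_assoc, ← Matrix.SpecialLinearGroup.coe_mul, mul_inv_cancel,
          Matrix.SpecialLinearGroup.coe_one, one_mul, mul_assoc, ← Matrix.SpecialLinearGroup.coe_mul, mul_inv_cancel,
          Matrix.SpecialLinearGroup.coe_one, mul_one] }
  map_one' := Equiv.ext fun X => by simp
  map_mul' A B := Equiv.ext fun X => by simp [_root_.mul_inv_rev, mul_assoc]

theorem conjM_apply (A : Matrix.SpecialLinearGroup (Fin 3) (ZMod 7)) (X : M3) :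
    conjM A X = (A : M3) * X * ((A⁻¹ : Matrix.SpecialLinearGroup (Fin 3) (ZMod 7)) : M3) := rfl

theorem ker_conjM : conjM.ker = Subgroup.center (Matrix.SpecialLinearGroup (Fin 3) (ZMod 7)) := by
  ext A
  rw [MonoidHom.mem_ker, Subgroup.mem_center_iff]
  constructor
  · intro h B
    have h1 : (A : M3) * B * ((A⁻¹ : Matrix.SpecialLinearGroup (Fin 3) (ZMod 7)) : M3) = B := by
      rw [← conjM_apply, h]; rfl
    have h2 : A * B * A⁻¹ = B := Subtype.ext (by simpa using h1)
    exact (mul_inv_eq_iff_eq_mul.1 h2).symm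
  · intro h
    obtain ⟨r, -, hr⟩ := Matrix.SpecialLinearGroup.mem_center_iff.1 (Subgroup.mem_center_iff.2 h)
    refine Equiv.ext fun X => ?_
    rw [conjM_apply, Equiv.Perm.one_apply, show (A : M3) * X = X * (A : M3) by
      rw [← hr]; exact (Matrix.scalar_commute r (fun _ => mul_comm _ _) X).eq, mul_assoc,
      ← Matrix.SpecialLinearGroup.coe_mul, mul_inv_cancel, Matrix.SpecialLinearGroup.coe_one, mul_one]

theorem range_conjM_iso :
    Nonempty (conjM.range ≃* Matrix.ProjectiveSpecialLinearGroup (Fin 3) (ZMod 7)) :=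
  ⟨((QuotientGroup.quotientKerEquivRange conjM).symm).trans (QuotientGroup.quotientMulEquivOfEq ker_conjM)⟩

theorem card_range_conjM : Nat.card conjM.range = 1876896 := by
  haveI : Fact (Nat.Prime 7) := ⟨by norm_num⟩
  obtain ⟨e⟩ := range_conjM_iso
  rw [Nat.card_congr e.toEquiv]
  have h1 := Classical.natCard_GL_eq_SL_mul (F := ZMod 7) 3 (by norm_num)
  have h2 := Classical.natCard_PSL_mul (F := ZMod 7) 3 (by norm_num)
  rw [Classical.natCard_units_field, ZMod.card, Matrix.card_GL_field, ZMod.card, Fin.prod_univ_three] at h1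
  rw [Classical.natCard_units_field, ZMod.card] at h2
  rw [show Nat.gcd 3 (7 - 1) = 3 from rfl] at h2
  norm_num at h1 h2
  simp only [← Nat.card_eq_fintype_card] at h1 h2
  omega

theorem twist_zero : ¬ -(mA 0 * (1 : M3)ᵀ * mI 0) = 1 := by decide +kernel

theorem sigma6_zero_one : ¬ sigma6 0 1 = 1 := by
  rw [sigma6_apply (by norm_num)]
  exact twist_zero

/-- Even words for the elementary matrices. -/
def trans6 : List ((Fin 3 × Fin 3) × List ℕ) := [((0, 1), [1, 2, 4, 5, 3, 4, 1, 2, 1, 3, 2, 3, 1, 4, 2, 3, 2, 4, 3, 4, 0, 1, 0, 2]), ((0, 2), [4, 3, 1, 2, 3, 2, 1, 0, 4, 3, 2, 3, 1, 2, 3, 4, 3, 5, 2, 3, 1, 4, 2, 3, 0, 1, 2, 3, 1, 4]), ((1, 0), [1, 2, 4, 5, 3, 4, 1, 2, 0, 3, 1, 2, 3, 4, 1, 2, 3, 2, 3, 4, 1, 5, 0, 2]), ((1, 2), [3, 2, 1, 0, 4, 3, 2, 3, 2, 4, 1, 3, 2, 3, 4, 5, 1, 2, 3, 4, 2, 3, 1, 2, 0, 3]), ((2, 0), [4, 3, 0, 1, 2, 3, 1, 2, 0, 1, 4, 5, 3, 4, 2, 3, 2, 4, 1, 3, 2, 3, 0, 4, 1, 2, 3, 2, 1, 3, 0, 4]), ((2, 1), [3, 2, 1, 0, 4, 3, 2, 4, 3, 4, 2, 3, 1, 2, 3, 4,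 1, 5, 2, 3, 2, 4, 1, 2, 0, 3])]

/-- A word gives a conjugation by an elementary matrix. -/
def transOk (e : (Fin 3 × Fin 3) × List ℕ) : Bool :=
  (e.2.all fun s => Nat.blt s 6) && Nat.beq (e.2.length % 2) 0 &&
    (List.range 7).any fun c => evenMat e.2 == (c : ZMod 7) • Matrix.transvection e.1.1 e.1.2 (1 : ZMod 7)

theorem conjM_trans_mem {i j : Fin 3} (h : i ≠ j) (c : ZMod 7) :
    conjM (Matrix.SpecialLinearGroup.transvection h c) ∈ graph6.map (MonoidHom.snd _ _) := by
  haveI : Fact (Nat.Prime 7) := ⟨by norm_num⟩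
  suffices h1 : conjM (Matrix.SpecialLinearGroup.transvection h 1) ∈ graph6.map (MonoidHom.snd _ _) by
    obtain ⟨n, rfl⟩ : ∃ n : ℕ, (n : ZMod 7) = c := ⟨c.val, ZMod.natCast_zmod_val c⟩
    induction n with
    | zero =>
      rw [Nat.cast_zero, show Matrix.SpecialLinearGroup.transvection h (0 : ZMod 7) = 1 from
        Subtype.ext (by simp [Matrix.SpecialLinearGroup.transvection_coe]), map_one]
      exact one_mem _
    | succ n ih =>
      have e : Matrix.SpecialLinearGroup.transvection h ((n + 1 : ℕ) : ZMod 7) =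
          Matrix.SpecialLinearGroup.transvection h (n : ZMod 7) * Matrix.SpecialLinearGroup.transvection h 1 := by
        refine Subtype.ext ?_
        rw [Matrix.SpecialLinearGroup.coe_mul, Matrix.SpecialLinearGroup.transvection_coe,
          Matrix.SpecialLinearGroup.transvection_coe, Matrix.SpecialLinearGroup.transvection_coe,
          Nat.cast_succ]
        simp [Matrix.transvection, add_mul, mul_add, Matrix.single_mul_single_of_ne, h.symm, Matrix.single_add, add_assoc]
      rw [e, map_mul]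
      exact mul_mem ih h1
  have hall : ∀ i j : Fin 3, i ≠ j → trans6.any (fun e => decide (e.1 = (i, j)) && transOk e) = true := by
    decide +kernel
  obtain ⟨e, -, he⟩ := List.any_eq_true.1 (hall i j h)
  simp only [Bool.and_eq_true, decide_eq_true_eq, transOk, List.all_eq_true, List.any_eq_true, beq_iff_eq] at he
  obtain ⟨he1, ⟨hw, hl⟩, a, -, ha⟩ := he
  have hw' : ∀ s ∈ e.2, s < 6 := fun s hs => Nat.le_of_ble_eq_true (hw s hs)
  obtain ⟨i1, i2⟩ := even_spec e.2 hw' (Nat.eq_of_beq_eq_true hl)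
  refine ⟨ev both e.2, ev_mem _ fun s hs => ?_, ?_⟩
  · have : s < 6 := hw' s hs
    exact mem_single (by interval_cases s <;> decide)
  · rw [ev_both _ hw']
    show ev sigma6 e.2 = _
    refine Equiv.ext fun X => ?_
    rw [i2, conjM_apply]
    rw [ha, he1] at i1 ⊢
    simp only [smul_mul_assoc] at i1 ⊢
    set T := Matrix.SpecialLinearGroup.transvection h (1 : ZMod 7) with hT
    have hTm : Matrix.transvection i j (1 : ZMod 7) = (T : M3) := rfl
    rw [hTm] at i1 ⊢
    have i3 : ((T⁻¹ : Matrix.SpecialLinearGroup (Fin 3) (ZMod 7)) : M3) = (a : ZMod 7) • evenInv e.2 := by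
      calc ((T⁻¹ : Matrix.SpecialLinearGroup (Fin 3) (ZMod 7)) : M3)
          = ((T⁻¹ : Matrix.SpecialLinearGroup (Fin 3) (ZMod 7)) : M3) * ((a : ZMod 7) • ((T : M3) * evenInv e.2)) := by
            rw [i1, mul_one]
        _ = (a : ZMod 7) • evenInv e.2 := by
            rw [mul_smul_comm, ← mul_assoc, ← Matrix.SpecialLinearGroup.coe_mul, inv_mul_cancel,
              Matrix.SpecialLinearGroup.coe_one, one_mul]
    rw [i3, mul_smul_comm]

theorem exists_half : ∃ N : Subgroup (val g lv1W), N.Normal ∧ N.index = 2 ∧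
    Nonempty (N ≃* Matrix.ProjectiveSpecialLinearGroup (Fin 3) (ZMod 7)) := by
  haveI : Fact (Nat.Prime 7) := ⟨by norm_num⟩
  haveI := finite
  obtain ⟨hfin, hcard⟩ := bound_six both both_sq both_words
  change Finite graph6 at hfin
  change Nat.card graph6 ≤ 3753792 at hcard
  set π₁ : graph6 →* val g lv1W := ((MonoidHom.fst _ _).comp graph6.subtype).codRestrict _ fun y =>
    fst_graph6 ▸ Subgroup.mem_map_of_mem _ y.2 with hπ₁
  have hsurj : Function.Surjective π₁ := fun y => by
    have hy : (y : Spor.ON) ∈ graph6.map (MonoidHom.fst _ _) := fst_graph6.symm ▸ y.2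
    obtain ⟨z, hz, e⟩ := Subgroup.mem_map.1 hy
    exact ⟨⟨z, hz⟩, Subtype.ext e⟩
  have hbij : Function.Bijective π₁ := (Nat.bijective_iff_surjective_and_card _).2 ⟨hsurj,
    le_antisymm (hcard.trans card_nodes.ge) (Nat.card_le_card_of_surjective _ hsurj)⟩
  set ψ : val g lv1W →* Equiv.Perm M3 :=
    ((MonoidHom.snd _ _).comp graph6.subtype).comp (MulEquiv.ofBijective π₁ hbij).symm.toMonoidHom with hψ
  have hrange : ψ.range = graph6.map (MonoidHom.snd _ _) := by
    rw [hψ, MonoidHom.range_comp, MonoidHom.range_eq_top.2 (MulEquiv.ofBijective π₁ hbij).symm.surjective,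
      ← MonoidHom.range_eq_map, MonoidHom.range_comp, Subgroup.range_subtype]
  have hle : conjM.range ≤ ψ.range := by
    rw [hrange, MonoidHom.range_eq_map, ← Classical.SL_closure_transvections, MonoidHom.map_closure,
      Subgroup.closure_le]
    rintro _ ⟨_, ⟨t, rfl⟩, rfl⟩
    obtain ⟨i, j, hij, c⟩ := t
    exact conjM_trans_mem hij c
  have h0 : sigma6 0 ∈ ψ.range ∧ sigma6 0 ∉ conjM.range := by
    constructor
    · rw [hrange]
      exact ⟨_, mem_single (g := both) (L := [0, 1, 2, 3, 4, 5]) (s := 0) (by decide), rfl⟩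
    · rintro ⟨A, hA⟩
      have h1 : conjM A 1 = 1 := by
        rw [conjM_apply, mul_one, ← Matrix.SpecialLinearGroup.coe_mul, mul_inv_cancel, Matrix.SpecialLinearGroup.coe_one]
      rw [hA] at h1
      exact sigma6_zero_one h1
  haveI : Finite ψ.range := inferInstance
  have hR : 3753792 ≤ Nat.card ψ.range := by
    obtain ⟨k, hk⟩ := Subgroup.card_dvd_of_le hle
    rw [card_range_conjM] at hk
    rcases k with _ | _ | k
    · simp only [mul_zero] at hk
      exact absurd hk Nat.card_pos.ne'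
    · exfalso
      have := Subgroup.eq_of_le_of_card_ge hle (by rw [card_range_conjM, hk])
      exact h0.2 (this ▸ h0.1)
    · rw [hk]
      nlinarith
  have hinj : Function.Injective ψ := by
    have hb : Function.Bijective ψ.rangeRestrict := (Nat.bijective_iff_surjective_and_card _).2
      ⟨ψ.rangeRestrict_surjective, le_antisymm (card_nodes.le.trans hR)
        (Nat.card_le_card_of_surjective _ ψ.rangeRestrict_surjective)⟩
    exact fun u v h => hb.1 (Subtype.ext h)
  have hmap : (conjM.range.comap ψ).map ψ = conjM.range := Subgroup.map_comap_eq_self hle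
  obtain ⟨e⟩ := range_conjM_iso
  set N := conjM.range.comap ψ
  have eN : N ≃* conjM.range := (N.equivMapOfInjective ψ hinj).trans (MulEquiv.subgroupCongr hmap)
  have hN : Nat.card N = 1876896 := (Nat.card_congr eN.toEquiv).trans card_range_conjM
  have hi : N.index = 2 := by
    have := N.card_mul_index
    rw [hN, card_nodes] at this
    omega
  exact ⟨N, Subgroup.normal_of_index_eq_two hi, hi, ⟨eN.trans e⟩⟩

end Cfsg.Agent.Spor.Cos.ON
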