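import Cfsg.Agent.Lib.Spor.Cos.ON.Sa0Data
import Cfsg.Agent.Lib.Spor.Cos.ON.ActAData
import Cfsg.Agent.Lib.Spor.Cos.ON.Lv1Data

/-! Data and checks for a presented sporadic group. -/

set_option autoImplicit false
set_option maxRecDepth 100000
set_option maxHeartbeats 4000000

namespace Cfsg.Agent.Spor.Cos.ON

theorem sa0_closed16 : allBlock (sa0.chkClosed actA lv1W) 58653 1024 16 = true := by decide +kernel

theorem sa0_closed17 : allBlock (sa0.chkClosed actA lv1W) 58653 1024 17 = true := by decide +kernel

theorem sa0_closed18 : allBlock (sa0.chkClosed actA lv1W) 58653 1024 18 = true := by decide +kernel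

theorem sa0_closed19 : allBlock (sa0.chkClosed actA lv1W) 58653 1024 19 = true := by decide +kernel

theorem sa0_closed20 : allBlock (sa0.chkClosed actA lv1W) 58653 1024 20 = true := by decide +kernel

theorem sa0_closed21 : allBlock (sa0.chkClosed actA lv1W) 58653 1024 21 = true := by decide +kernel

theorem sa0_closed22 : allBlock (sa0.chkClosed actA lv1W) 58653 1024 22 = true := by decide +kernel

theorem sa0_closed23 : allBlock (sa0.chkClosed actA lv1W) 58653 1024 23 = true := by decide +kernel


end Cfsg.Agent.Spor.Cos.ON
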