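import Cfsg.Agent.Lib.Spor.Cos.ON.Sa0Data
import Cfsg.Agent.Lib.Spor.Cos.ON.ActAData
import Cfsg.Agent.Lib.Spor.Cos.ON.Lv1Data

/-! Data and checks for a presented sporadic group. -/

set_option autoImplicit false
set_option maxRecDepth 100000
set_option maxHeartbeats 4000000

namespace Cfsg.Agent.Spor.Cos.ON

theorem sa0_closed32 : allBlock (sa0.chkClosed actA lv1W) 58653 1024 32 = true := by decide +kernel

theorem sa0_closed33 : allBlock (sa0.chkClosed actA lv1W) 58653 1024 33 = true := by decide +kernel

theorem sa0_closed34 : allBlock (sa0.chkClosed actA lv1W) 58653 1024 34 = true := by decide +kernel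

theorem sa0_closed35 : allBlock (sa0.chkClosed actA lv1W) 58653 1024 35 = true := by decide +kernel

theorem sa0_closed36 : allBlock (sa0.chkClosed actA lv1W) 58653 1024 36 = true := by decide +kernel

theorem sa0_closed37 : allBlock (sa0.chkClosed actA lv1W) 58653 1024 37 = true := by decide +kernel

theorem sa0_closed38 : allBlock (sa0.chkClosed actA lv1W) 58653 1024 38 = true := by decide +kernel

theorem sa0_closed39 : allBlock (sa0.chkClosed actA lv1W) 58653 1024 39 = true := by decide +kernel


end Cfsg.Agent.Spor.Cos.ON
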