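import Cfsg.Agent.Lib.Spor.Cos.ON.Sa0Closed0
import Cfsg.Agent.Lib.Spor.Cos.ON.Sa0Closed1
import Cfsg.Agent.Lib.Spor.Cos.ON.Sa0Closed2
import Cfsg.Agent.Lib.Spor.Cos.ON.Sa0Closed3
import Cfsg.Agent.Lib.Spor.Cos.ON.Sa0Closed4
import Cfsg.Agent.Lib.Spor.Cos.ON.Sa0Closed5
import Cfsg.Agent.Lib.Spor.Cos.ON.Sa0Closed6
import Cfsg.Agent.Lib.Spor.Cos.ON.Sa0Closed7

/-! Data and checks for a presented sporadic group. -/

set_option autoImplicit false
set_option maxRecDepth 100000
set_option maxHeartbeats 4000000

namespace Cfsg.Agent.Spor.Cos.ON

theorem sa0_closed : ∀ i < 58653, (sa0.chkClosed actA lv1W) i = true :=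
  Wide.of_blocks (size := 1024) (b := 58) (by decide) (by decide) fun j hj => by
    interval_cases j
    · exact sa0_closed0
    · exact sa0_closed1
    · exact sa0_closed2
    · exact sa0_closed3
    · exact sa0_closed4
    · exact sa0_closed5
    · exact sa0_closed6
    · exact sa0_closed7
    · exact sa0_closed8
    · exact sa0_closed9
    · exact sa0_closed10
    · exact sa0_closed11
    · exact sa0_closed12
    · exact sa0_closed13
    · exact sa0_closed14
    · exact sa0_closed15
    · exact sa0_closed16
    · exact sa0_closed17
    · exact sa0_closed18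
    · exact sa0_closed19
    · exact sa0_closed20
    · exact sa0_closed21
    · exact sa0_closed22
    · exact sa0_closed23
    · exact sa0_closed24
    · exact sa0_closed25
    · exact sa0_closed26
    · exact sa0_closed27
    · exact sa0_closed28
    · exact sa0_closed29
    · exact sa0_closed30
    · exact sa0_closed31
    · exact sa0_closed32
    · exact sa0_closed33
    · exact sa0_closed34
    · exact sa0_closed35
    · exact sa0_closed36
    · exact sa0_closed37
    · exact sa0_closed38
    · exact sa0_closed39
    · exact sa0_closed40
    · exact sa0_closed41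
    · exact sa0_closed42
    · exact sa0_closed43
    · exact sa0_closed44
    · exact sa0_closed45
    · exact sa0_closed46
    · exact sa0_closed47
    · exact sa0_closed48
    · exact sa0_closed49
    · exact sa0_closed50
    · exact sa0_closed51
    · exact sa0_closed52
    · exact sa0_closed53
    · exact sa0_closed54
    · exact sa0_closed55
    · exact sa0_closed56
    · exact sa0_closed57

end Cfsg.Agent.Spor.Cos.ON
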