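import Cfsg.Agent.Lib.Spor.Cos.ON.Sa3Closed0
import Cfsg.Agent.Lib.Spor.Cos.ON.Sa3Closed1
import Cfsg.Agent.Lib.Spor.Cos.ON.Sa3Closed2
import Cfsg.Agent.Lib.Spor.Cos.ON.Sa3Closed3
import Cfsg.Agent.Lib.Spor.Cos.ON.Sa3Closed4
import Cfsg.Agent.Lib.Spor.Cos.ON.Sa3Closed5
import Cfsg.Agent.Lib.Spor.Cos.ON.Sa3Closed6

/-! Data and checks for a presented sporadic group. -/

set_option autoImplicit false
set_option maxRecDepth 100000
set_option maxHeartbeats 4000000

namespace Cfsg.Agent.Spor.Cos.ON

theorem sa3_closed : ∀ i < 52136, (sa3.chkClosed actA lv1W) i = true :=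
  Wide.of_blocks (size := 1024) (b := 51) (by decide) (by decide) fun j hj => by
    interval_cases j
    · exact sa3_closed0
    · exact sa3_closed1
    · exact sa3_closed2
    · exact sa3_closed3
    · exact sa3_closed4
    · exact sa3_closed5
    · exact sa3_closed6
    · exact sa3_closed7
    · exact sa3_closed8
    · exact sa3_closed9
    · exact sa3_closed10
    · exact sa3_closed11
    · exact sa3_closed12
    · exact sa3_closed13
    · exact sa3_closed14
    · exact sa3_closed15
    · exact sa3_closed16
    · exact sa3_closed17
    · exact sa3_closed18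
    · exact sa3_closed19
    · exact sa3_closed20
    · exact sa3_closed21
    · exact sa3_closed22
    · exact sa3_closed23
    · exact sa3_closed24
    · exact sa3_closed25
    · exact sa3_closed26
    · exact sa3_closed27
    · exact sa3_closed28
    · exact sa3_closed29
    · exact sa3_closed30
    · exact sa3_closed31
    · exact sa3_closed32
    · exact sa3_closed33
    · exact sa3_closed34
    · exact sa3_closed35
    · exact sa3_closed36
    · exact sa3_closed37
    · exact sa3_closed38
    · exact sa3_closed39
    · exact sa3_closed40
    · exact sa3_closed41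
    · exact sa3_closed42
    · exact sa3_closed43
    · exact sa3_closed44
    · exact sa3_closed45
    · exact sa3_closed46
    · exact sa3_closed47
    · exact sa3_closed48
    · exact sa3_closed49
    · exact sa3_closed50

end Cfsg.Agent.Spor.Cos.ON
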