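import Cfsg.Agent.Lib.Spor.Cos.ON.SaList
import Cfsg.Agent.Lib.Spor.Cos.ON.Wide.Simple

/-! Data and checks for a presented sporadic group. -/

set_option autoImplicit false
set_option maxRecDepth 100000
set_option maxHeartbeats 4000000

namespace Cfsg.Agent.Spor.Cos.ON

theorem sa_partition8 : allBlock (Wide.chkPartition saList 0) 122760 2048 8 = true := by decide +kernel

theorem sa_partition9 : allBlock (Wide.chkPartition saList 0) 122760 2048 9 = true := by decide +kernel

theorem sa_partition10 : allBlock (Wide.chkPartition saList 0) 122760 2048 10 = true := by decide +kernel

theorem sa_partition11 : allBlock (Wide.chkPartition saList 0) 122760 2048 11 = true := by decide +kernel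

theorem sa_partition12 : allBlock (Wide.chkPartition saList 0) 122760 2048 12 = true := by decide +kernel

theorem sa_partition13 : allBlock (Wide.chkPartition saList 0) 122760 2048 13 = true := by decide +kernel

theorem sa_partition14 : allBlock (Wide.chkPartition saList 0) 122760 2048 14 = true := by decide +kernel

theorem sa_partition15 : allBlock (Wide.chkPartition saList 0) 122760 2048 15 = true := by decide +kernel


end Cfsg.Agent.Spor.Cos.ON
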