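import Cfsg.Agent.Lib.Spor.Cos.ON.SaList
import Cfsg.Agent.Lib.Spor.Cos.ON.Wide.Simple

/-! Data and checks for a presented sporadic group. -/

set_option autoImplicit false
set_option maxRecDepth 100000
set_option maxHeartbeats 4000000

namespace Cfsg.Agent.Spor.Cos.ON

theorem sa_partition24 : allBlock (Wide.chkPartition saList 0) 122760 2048 24 = true := by decide +kernel

theorem sa_partition25 : allBlock (Wide.chkPartition saList 0) 122760 2048 25 = true := by decide +kernel

theorem sa_partition26 : allBlock (Wide.chkPartition saList 0) 122760 2048 26 = true := by decide +kernel

theorem sa_partition27 : allBlock (Wide.chkPartition saList 0) 122760 2048 27 = true := by decide +kernel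

theorem sa_partition28 : allBlock (Wide.chkPartition saList 0) 122760 2048 28 = true := by decide +kernel

theorem sa_partition29 : allBlock (Wide.chkPartition saList 0) 122760 2048 29 = true := by decide +kernel

theorem sa_partition30 : allBlock (Wide.chkPartition saList 0) 122760 2048 30 = true := by decide +kernel

theorem sa_partition31 : allBlock (Wide.chkPartition saList 0) 122760 2048 31 = true := by decide +kernel


end Cfsg.Agent.Spor.Cos.ON
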