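import Cfsg.Agent.Lib.Spor.Cos.ON.SaList
import Cfsg.Agent.Lib.Spor.Cos.ON.Wide.Simple

/-! Data and checks for a presented sporadic group. -/

set_option autoImplicit false
set_option maxRecDepth 100000
set_option maxHeartbeats 4000000

namespace Cfsg.Agent.Spor.Cos.ON

theorem sa_partition32 : allBlock (Wide.chkPartition saList 0) 122760 2048 32 = true := by decide +kernel

theorem sa_partition33 : allBlock (Wide.chkPartition saList 0) 122760 2048 33 = true := by decide +kernel

theorem sa_partition34 : allBlock (Wide.chkPartition saList 0) 122760 2048 34 = true := by decide +kernel

theorem sa_partition35 : allBlock (Wide.chkPartition saList 0) 122760 2048 35 = true := by decide +kernel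

theorem sa_partition36 : allBlock (Wide.chkPartition saList 0) 122760 2048 36 = true := by decide +kernel

theorem sa_partition37 : allBlock (Wide.chkPartition saList 0) 122760 2048 37 = true := by decide +kernel

theorem sa_partition38 : allBlock (Wide.chkPartition saList 0) 122760 2048 38 = true := by decide +kernel

theorem sa_partition39 : allBlock (Wide.chkPartition saList 0) 122760 2048 39 = true := by decide +kernel


end Cfsg.Agent.Spor.Cos.ON
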