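import Cfsg.Agent.Lib.Spor.Cos.ON.SaList
import Cfsg.Agent.Lib.Spor.Cos.ON.Wide.Simple

/-! Data and checks for a presented sporadic group. -/

set_option autoImplicit false
set_option maxRecDepth 100000
set_option maxHeartbeats 4000000

namespace Cfsg.Agent.Spor.Cos.ON

theorem sa_partition48 : allBlock (Wide.chkPartition saList 0) 122760 2048 48 = true := by decide +kernel

theorem sa_partition49 : allBlock (Wide.chkPartition saList 0) 122760 2048 49 = true := by decide +kernel

theorem sa_partition50 : allBlock (Wide.chkPartition saList 0) 122760 2048 50 = true := by decide +kernel

theorem sa_partition51 : allBlock (Wide.chkPartition saList 0) 122760 2048 51 = true := by decide +kernel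

theorem sa_partition52 : allBlock (Wide.chkPartition saList 0) 122760 2048 52 = true := by decide +kernel

theorem sa_partition53 : allBlock (Wide.chkPartition saList 0) 122760 2048 53 = true := by decide +kernel

theorem sa_partition54 : allBlock (Wide.chkPartition saList 0) 122760 2048 54 = true := by decide +kernel

theorem sa_partition55 : allBlock (Wide.chkPartition saList 0) 122760 2048 55 = true := by decide +kernel


end Cfsg.Agent.Spor.Cos.ON
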