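import Cfsg.Agent.Lib.Spor.Cos.ON.SaPart0
import Cfsg.Agent.Lib.Spor.Cos.ON.SaPart1
import Cfsg.Agent.Lib.Spor.Cos.ON.SaPart2
import Cfsg.Agent.Lib.Spor.Cos.ON.SaPart3
import Cfsg.Agent.Lib.Spor.Cos.ON.SaPart4
import Cfsg.Agent.Lib.Spor.Cos.ON.SaPart5
import Cfsg.Agent.Lib.Spor.Cos.ON.SaPart6
import Cfsg.Agent.Lib.Spor.Cos.ON.SaPart7

/-! Data and checks for a presented sporadic group. -/

set_option autoImplicit false
set_option maxRecDepth 100000
set_option maxHeartbeats 4000000

namespace Cfsg.Agent.Spor.Cos.ON

theorem sa_partition : ∀ i < 122760, (Wide.chkPartition saList 0) i = true :=
  Wide.of_blocks (size := 2048) (b := 60) (by decide) (by decide) fun j hj => by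
    interval_cases j
    · exact sa_partition0
    · exact sa_partition1
    · exact sa_partition2
    · exact sa_partition3
    · exact sa_partition4
    · exact sa_partition5
    · exact sa_partition6
    · exact sa_partition7
    · exact sa_partition8
    · exact sa_partition9
    · exact sa_partition10
    · exact sa_partition11
    · exact sa_partition12
    · exact sa_partition13
    · exact sa_partition14
    · exact sa_partition15
    · exact sa_partition16
    · exact sa_partition17
    · exact sa_partition18
    · exact sa_partition19
    · exact sa_partition20
    · exact sa_partition21
    · exact sa_partition22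
    · exact sa_partition23
    · exact sa_partition24
    · exact sa_partition25
    · exact sa_partition26
    · exact sa_partition27
    · exact sa_partition28
    · exact sa_partition29
    · exact sa_partition30
    · exact sa_partition31
    · exact sa_partition32
    · exact sa_partition33
    · exact sa_partition34
    · exact sa_partition35
    · exact sa_partition36
    · exact sa_partition37
    · exact sa_partition38
    · exact sa_partition39
    · exact sa_partition40
    · exact sa_partition41
    · exact sa_partition42
    · exact sa_partition43
    · exact sa_partition44
    · exact sa_partition45
    · exact sa_partition46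
    · exact sa_partition47
    · exact sa_partition48
    · exact sa_partition49
    · exact sa_partition50
    · exact sa_partition51
    · exact sa_partition52
    · exact sa_partition53
    · exact sa_partition54
    · exact sa_partition55
    · exact sa_partition56
    · exact sa_partition57
    · exact sa_partition58
    · exact sa_partition59

end Cfsg.Agent.Spor.Cos.ON
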