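import Cfsg.Agent.Lib.Spor.Cos.ON.Sa0Data
import Cfsg.Agent.Lib.Spor.Cos.ON.ActAData
import Cfsg.Agent.Lib.Spor.Cos.ON.Lv1Data

/-! Data and checks for a presented sporadic group. -/

set_option autoImplicit false
set_option maxRecDepth 100000
set_option maxHeartbeats 4000000

namespace Cfsg.Agent.Spor.Cos.ON

theorem sa0_ents24 : allBlock (sa0.chkEnt actA lv1W 1) 58653 1024 24 = true := by decide +kernel

theorem sa0_ents25 : allBlock (sa0.chkEnt actA lv1W 1) 58653 1024 25 = true := by decide +kernel

theorem sa0_ents26 : allBlock (sa0.chkEnt actA lv1W 1) 58653 1024 26 = true := by decide +kernel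

theorem sa0_ents27 : allBlock (sa0.chkEnt actA lv1W 1) 58653 1024 27 = true := by decide +kernel

theorem sa0_ents28 : allBlock (sa0.chkEnt actA lv1W 1) 58653 1024 28 = true := by decide +kernel

theorem sa0_ents29 : allBlock (sa0.chkEnt actA lv1W 1) 58653 1024 29 = true := by decide +kernel

theorem sa0_ents30 : allBlock (sa0.chkEnt actA lv1W 1) 58653 1024 30 = true := by decide +kernel

theorem sa0_ents31 : allBlock (sa0.chkEnt actA lv1W 1) 58653 1024 31 = true := by decide +kernel

theorem sa0_ents32 : allBlock (sa0.chkEnt actA lv1W 1) 58653 1024 32 = true := by decide +kernel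

theorem sa0_ents33 : allBlock (sa0.chkEnt actA lv1W 1) 58653 1024 33 = true := by decide +kernel

theorem sa0_ents34 : allBlock (sa0.chkEnt actA lv1W 1) 58653 1024 34 = true := by decide +kernel

theorem sa0_ents35 : allBlock (sa0.chkEnt actA lv1W 1) 58653 1024 35 = true := by decide +kernel


end Cfsg.Agent.Spor.Cos.ON
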