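import Cfsg.Agent.Lib.Spor.Cos.ON.Sa0Data
import Cfsg.Agent.Lib.Spor.Cos.ON.ActAData
import Cfsg.Agent.Lib.Spor.Cos.ON.Lv1Data

/-! Data and checks for a presented sporadic group. -/

set_option autoImplicit false
set_option maxRecDepth 100000
set_option maxHeartbeats 4000000

namespace Cfsg.Agent.Spor.Cos.ON

theorem sa0_ents36 : allBlock (sa0.chkEnt actA lv1W 1) 58653 1024 36 = true := by decide +kernel

theorem sa0_ents37 : allBlock (sa0.chkEnt actA lv1W 1) 58653 1024 37 = true := by decide +kernel

theorem sa0_ents38 : allBlock (sa0.chkEnt actA lv1W 1) 58653 1024 38 = true := by decide +kernel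

theorem sa0_ents39 : allBlock (sa0.chkEnt actA lv1W 1) 58653 1024 39 = true := by decide +kernel

theorem sa0_ents40 : allBlock (sa0.chkEnt actA lv1W 1) 58653 1024 40 = true := by decide +kernel

theorem sa0_ents41 : allBlock (sa0.chkEnt actA lv1W 1) 58653 1024 41 = true := by decide +kernel

theorem sa0_ents42 : allBlock (sa0.chkEnt actA lv1W 1) 58653 1024 42 = true := by decide +kernel

theorem sa0_ents43 : allBlock (sa0.chkEnt actA lv1W 1) 58653 1024 43 = true := by decide +kernel

theorem sa0_ents44 : allBlock (sa0.chkEnt actA lv1W 1) 58653 1024 44 = true := by decide +kernel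

theorem sa0_ents45 : allBlock (sa0.chkEnt actA lv1W 1) 58653 1024 45 = true := by decide +kernel

theorem sa0_ents46 : allBlock (sa0.chkEnt actA lv1W 1) 58653 1024 46 = true := by decide +kernel

theorem sa0_ents47 : allBlock (sa0.chkEnt actA lv1W 1) 58653 1024 47 = true := by decide +kernel


end Cfsg.Agent.Spor.Cos.ON
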