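import Cfsg.Agent.Lib.Spor.Cos.ON.Sa0Data
import Cfsg.Agent.Lib.Spor.Cos.ON.ActAData
import Cfsg.Agent.Lib.Spor.Cos.ON.Lv1Data

/-! Data and checks for a presented sporadic group. -/

set_option autoImplicit false
set_option maxRecDepth 100000
set_option maxHeartbeats 4000000

namespace Cfsg.Agent.Spor.Cos.ON

theorem sa0_ents0 : allBlock (sa0.chkEnt actA lv1W 1) 58653 1024 0 = true := by decide +kernel

theorem sa0_ents1 : allBlock (sa0.chkEnt actA lv1W 1) 58653 1024 1 = true := by decide +kernel

theorem sa0_ents2 : allBlock (sa0.chkEnt actA lv1W 1) 58653 1024 2 = true := by decide +kernel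

theorem sa0_ents3 : allBlock (sa0.chkEnt actA lv1W 1) 58653 1024 3 = true := by decide +kernel

theorem sa0_ents4 : allBlock (sa0.chkEnt actA lv1W 1) 58653 1024 4 = true := by decide +kernel

theorem sa0_ents5 : allBlock (sa0.chkEnt actA lv1W 1) 58653 1024 5 = true := by decide +kernel

theorem sa0_ents6 : allBlock (sa0.chkEnt actA lv1W 1) 58653 1024 6 = true := by decide +kernel

theorem sa0_ents7 : allBlock (sa0.chkEnt actA lv1W 1) 58653 1024 7 = true := by decide +kernel

theorem sa0_ents8 : allBlock (sa0.chkEnt actA lv1W 1) 58653 1024 8 = true := by decide +kernel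

theorem sa0_ents9 : allBlock (sa0.chkEnt actA lv1W 1) 58653 1024 9 = true := by decide +kernel

theorem sa0_ents10 : allBlock (sa0.chkEnt actA lv1W 1) 58653 1024 10 = true := by decide +kernel

theorem sa0_ents11 : allBlock (sa0.chkEnt actA lv1W 1) 58653 1024 11 = true := by decide +kernel


end Cfsg.Agent.Spor.Cos.ON
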