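import Cfsg.Agent.Lib.Spor.Cos.ON.Sa2Data
import Cfsg.Agent.Lib.Spor.Cos.ON.ActAData
import Cfsg.Agent.Lib.Spor.Cos.ON.Lv1Data

/-! Data and checks for a presented sporadic group. -/

set_option autoImplicit false
set_option maxRecDepth 100000
set_option maxHeartbeats 4000000

namespace Cfsg.Agent.Spor.Cos.ON

theorem sa2_ents0 : allBlock (sa2.chkEnt actA lv1W 65) 6384 1024 0 = true := by decide +kernel

theorem sa2_ents1 : allBlock (sa2.chkEnt actA lv1W 65) 6384 1024 1 = true := by decide +kernel

theorem sa2_ents2 : allBlock (sa2.chkEnt actA lv1W 65) 6384 1024 2 = true := by decide +kernel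

theorem sa2_ents3 : allBlock (sa2.chkEnt actA lv1W 65) 6384 1024 3 = true := by decide +kernel

theorem sa2_ents4 : allBlock (sa2.chkEnt actA lv1W 65) 6384 1024 4 = true := by decide +kernel

theorem sa2_ents5 : allBlock (sa2.chkEnt actA lv1W 65) 6384 1024 5 = true := by decide +kernel

theorem sa2_ents6 : allBlock (sa2.chkEnt actA lv1W 65) 6384 1024 6 = true := by decide +kernel


end Cfsg.Agent.Spor.Cos.ON
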