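import Cfsg.Agent.Lib.Spor.Cos.ON.Sa3Data
import Cfsg.Agent.Lib.Spor.Cos.ON.ActAData
import Cfsg.Agent.Lib.Spor.Cos.ON.Lv1Data

/-! Data and checks for a presented sporadic group. -/

set_option autoImplicit false
set_option maxRecDepth 100000
set_option maxHeartbeats 4000000

namespace Cfsg.Agent.Spor.Cos.ON

theorem sa3_ents12 : allBlock (sa3.chkEnt actA lv1W 86) 52136 1024 12 = true := by decide +kernel

theorem sa3_ents13 : allBlock (sa3.chkEnt actA lv1W 86) 52136 1024 13 = true := by decide +kernel

theorem sa3_ents14 : allBlock (sa3.chkEnt actA lv1W 86) 52136 1024 14 = true := by decide +kernel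

theorem sa3_ents15 : allBlock (sa3.chkEnt actA lv1W 86) 52136 1024 15 = true := by decide +kernel

theorem sa3_ents16 : allBlock (sa3.chkEnt actA lv1W 86) 52136 1024 16 = true := by decide +kernel

theorem sa3_ents17 : allBlock (sa3.chkEnt actA lv1W 86) 52136 1024 17 = true := by decide +kernel

theorem sa3_ents18 : allBlock (sa3.chkEnt actA lv1W 86) 52136 1024 18 = true := by decide +kernel

theorem sa3_ents19 : allBlock (sa3.chkEnt actA lv1W 86) 52136 1024 19 = true := by decide +kernel

theorem sa3_ents20 : allBlock (sa3.chkEnt actA lv1W 86) 52136 1024 20 = true := by decide +kernel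

theorem sa3_ents21 : allBlock (sa3.chkEnt actA lv1W 86) 52136 1024 21 = true := by decide +kernel

theorem sa3_ents22 : allBlock (sa3.chkEnt actA lv1W 86) 52136 1024 22 = true := by decide +kernel

theorem sa3_ents23 : allBlock (sa3.chkEnt actA lv1W 86) 52136 1024 23 = true := by decide +kernel


end Cfsg.Agent.Spor.Cos.ON
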