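import Cfsg.Agent.Lib.Spor.Cos.ON.Sa3Data
import Cfsg.Agent.Lib.Spor.Cos.ON.ActAData
import Cfsg.Agent.Lib.Spor.Cos.ON.Lv1Data

/-! Data and checks for a presented sporadic group. -/

set_option autoImplicit false
set_option maxRecDepth 100000
set_option maxHeartbeats 4000000

namespace Cfsg.Agent.Spor.Cos.ON

theorem sa3_ents48 : allBlock (sa3.chkEnt actA lv1W 86) 52136 1024 48 = true := by decide +kernel

theorem sa3_ents49 : allBlock (sa3.chkEnt actA lv1W 86) 52136 1024 49 = true := by decide +kernel

theorem sa3_ents50 : allBlock (sa3.chkEnt actA lv1W 86) 52136 1024 50 = true := by decide +kernel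


end Cfsg.Agent.Spor.Cos.ON
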