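import Cfsg.Agent.Lib.Spor.Cos.ON.Sa3Ent0
import Cfsg.Agent.Lib.Spor.Cos.ON.Sa3Ent1
import Cfsg.Agent.Lib.Spor.Cos.ON.Sa3Ent2
import Cfsg.Agent.Lib.Spor.Cos.ON.Sa3Ent3
import Cfsg.Agent.Lib.Spor.Cos.ON.Sa3Ent4

/-! Data and checks for a presented sporadic group. -/

set_option autoImplicit false
set_option maxRecDepth 100000
set_option maxHeartbeats 4000000

namespace Cfsg.Agent.Spor.Cos.ON

theorem sa3_ents : ∀ i < 52136, (sa3.chkEnt actA lv1W 86) i = true :=
  Wide.of_blocks (size := 1024) (b := 51) (by decide) (by decide) fun j hj => by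
    interval_cases j
    · exact sa3_ents0
    · exact sa3_ents1
    · exact sa3_ents2
    · exact sa3_ents3
    · exact sa3_ents4
    · exact sa3_ents5
    · exact sa3_ents6
    · exact sa3_ents7
    · exact sa3_ents8
    · exact sa3_ents9
    · exact sa3_ents10
    · exact sa3_ents11
    · exact sa3_ents12
    · exact sa3_ents13
    · exact sa3_ents14
    · exact sa3_ents15
    · exact sa3_ents16
    · exact sa3_ents17
    · exact sa3_ents18
    · exact sa3_ents19
    · exact sa3_ents20
    · exact sa3_ents21
    · exact sa3_ents22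
    · exact sa3_ents23
    · exact sa3_ents24
    · exact sa3_ents25
    · exact sa3_ents26
    · exact sa3_ents27
    · exact sa3_ents28
    · exact sa3_ents29
    · exact sa3_ents30
    · exact sa3_ents31
    · exact sa3_ents32
    · exact sa3_ents33
    · exact sa3_ents34
    · exact sa3_ents35
    · exact sa3_ents36
    · exact sa3_ents37
    · exact sa3_ents38
    · exact sa3_ents39
    · exact sa3_ents40
    · exact sa3_ents41
    · exact sa3_ents42
    · exact sa3_ents43
    · exact sa3_ents44
    · exact sa3_ents45
    · exact sa3_ents46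
    · exact sa3_ents47
    · exact sa3_ents48
    · exact sa3_ents49
    · exact sa3_ents50

end Cfsg.Agent.Spor.Cos.ON
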