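import Cfsg.Agent.Lib.Spor.Cos.ON.Sa0Data
import Cfsg.Agent.Lib.Spor.Cos.ON.Sa1Data
import Cfsg.Agent.Lib.Spor.Cos.ON.Sa2Data
import Cfsg.Agent.Lib.Spor.Cos.ON.Sa3Data

/-! Data and checks for a presented sporadic group. -/

set_option autoImplicit false
set_option maxRecDepth 100000
set_option maxHeartbeats 4000000

namespace Cfsg.Agent.Spor.Cos.ON

/-- The orbits of the point stabiliser. -/
def saList : List (Wide.Orb × ℕ) := [(sa0, 1), (sa1, 5), (sa2, 65), (sa3, 86)]

end Cfsg.Agent.Spor.Cos.ON
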