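import Cfsg.Agent.Lib.Spor.Cos.ON.SaList
import Cfsg.Agent.Lib.Spor.Cos.ON.Wide.Simple

/-! Data and checks for a presented sporadic group. -/

set_option autoImplicit false
set_option maxRecDepth 100000
set_option maxHeartbeats 4000000

namespace Cfsg.Agent.Spor.Cos.ON

theorem sa_partition0 : allBlock (Wide.chkPartition saList 0) 122760 2048 0 = true := by decide +kernel

theorem sa_partition1 : allBlock (Wide.chkPartition saList 0) 122760 2048 1 = true := by decide +kernel

theorem sa_partition2 : allBlock (Wide.chkPartition saList 0) 122760 2048 2 = true := by decide +kernel

theorem sa_partition3 : allBlock (Wide.chkPartition saList 0) 122760 2048 3 = true := by decide +kernel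

theorem sa_partition4 : allBlock (Wide.chkPartition saList 0) 122760 2048 4 = true := by decide +kernel

theorem sa_partition5 : allBlock (Wide.chkPartition saList 0) 122760 2048 5 = true := by decide +kernel

theorem sa_partition6 : allBlock (Wide.chkPartition saList 0) 122760 2048 6 = true := by decide +kernel

theorem sa_partition7 : allBlock (Wide.chkPartition saList 0) 122760 2048 7 = true := by decide +kernel


end Cfsg.Agent.Spor.Cos.ON
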