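import Cfsg.Agent.Lib.Spor.Cos.ON.Order
import Cfsg.Agent.Lib.Spor.Cos.Simple

/-!
Subgroups of the O'Nan group generated by involutions that also act on few points.
-/

set_option autoImplicit false
set_option maxRecDepth 100000

namespace Cfsg.Agent.Spor.Cos.ON

/-- Words are trivial as they fix the base. -/
theorem ev_eq_one_of_fix {w : List ℕ} (hl : Wide.Act.lettersOk 7 [w] = true)
    (hf : ([0, 1, 65, 34].all fun r => Nat.beq (actA.go w r) r) = true) : ev g w = 1 := by
  refine det _ fun q hq => Fin.ext ?_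
  rw [homA.apply_ev w (Wide.Act.lt_of_lettersOk hl (List.mem_singleton_self w))]
  exact Nat.eq_of_beq_eq_true (List.all_eq_true.1 hf _ hq)

/-- Letters replaced by words. -/
def expand (L : List (List ℕ)) (w : List ℕ) : List ℕ := (w.map fun s => L.getD s []).flatten

theorem ev_expand {G : Type*} [Group G] (h : ℕ → G) (L : List (List ℕ)) :
    ∀ w : List ℕ, ev (fun s => ev h (L.getD s [])) w = ev h (expand L w)
  | [] => rfl
  | s :: w => by
    rw [ev, ev_expand h L w, ← ev_append]
    rfl

/-- The involutions given by some words. -/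
noncomputable def subGen (L : List (List ℕ)) (s : ℕ) : Spor.ON := ev g (L.getD s [])

theorem subGen_sq {L : List (List ℕ)} {k : ℕ} (hk : L.length = k)
    (h : ((List.range k).all fun s => Wide.Act.lettersOk 7 [expand L [s, s]] &&
      [0, 1, 65, 34].all fun r => Nat.beq (actA.go (expand L [s, s]) r) r) = true) (s : ℕ) :
    subGen L s * subGen L s = 1 := by
  rcases Nat.lt_or_ge s k with hs | hs
  · have := List.all_eq_true.1 h s (List.mem_range.2 hs)
    rw [Bool.and_eq_true] at this
    have e := ev_eq_one_of_fix this.1 this.2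
    rw [← ev_expand] at e
    simpa [ev, subGen] using e
  · rw [subGen, List.getD_eq_default _ _ (hk ▸ hs)]
    simp [ev]

theorem sub_words {L : List (List ℕ)} {R : List (List ℕ)}
    (h : (R.all fun w => Wide.Act.lettersOk 7 [expand L w] &&
      [0, 1, 65, 34].all fun r => Nat.beq (actA.go (expand L w) r) r) = true) :
    ∀ w ∈ R, ev (subGen L) w = 1 := by
  intro w hw
  have := List.all_eq_true.1 h w hw
  rw [Bool.and_eq_true] at this
  exact (ev_expand g L w).trans (ev_eq_one_of_fix this.1 this.2)

theorem simple_congr {G H : Type*} [Group G] [Group H] [IsSimpleGroup G] (e : G ≃* H) : IsSimpleGroup H := by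
  have := e.symm.toEquiv.nontrivial
  exact IsSimpleGroup.isSimpleGroup_of_surjective e.toMonoidHom e.surjective

section Pair

variable (L : List (List ℕ)) (A : Act)

/-- The pairs of an element and its permutation. -/
noncomputable def pairs : Subgroup (Spor.ON × Equiv.Perm (Fin A.N)) :=
  Subgroup.closure {y | ∃ s < A.n, (subGen L s, A.perm s) = y}

/-- The generators of the pairs. -/
noncomputable def pair (s : ℕ) : pairs L A :=
  if h : s < A.n then ⟨(subGen L s, A.perm s), Subgroup.subset_closure ⟨s, h, rfl⟩⟩ else 1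

theorem coe_pair {s : ℕ} (h : s < A.n) : (pair L A s : Spor.ON × Equiv.Perm (Fin A.N)) = (subGen L s, A.perm s) := by
  simp [pair, h]

theorem pair_sq (hL : ∀ s, subGen L s * subGen L s = 1) (s : ℕ) : pair L A s * pair L A s = 1 := by
  refine Subtype.ext ?_
  rcases Nat.lt_or_ge s A.n with h | h
  · rw [Subgroup.coe_mul, coe_pair L A h]
    exact Prod.ext (hL s) (A.perm_sq s)
  · simp [pair, Nat.not_lt.2 h]

theorem coe_ev : ∀ w : List ℕ, (∀ s ∈ w, s < A.n) →
    ((ev (pair L A) w : pairs L A) : Spor.ON × Equiv.Perm (Fin A.N)) = (ev (subGen L) w, ev A.perm w)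
  | [], _ => rfl
  | s :: w, h => by
    rw [ev, Subgroup.coe_mul, coe_ev w fun t ht => h t (List.mem_cons_of_mem _ ht),
      coe_pair L A (h s (List.mem_cons_self ..))]
    rfl

theorem pair_words (hA : ∀ p < A.N, A.chkInv p = true) {R : List (List ℕ)} (hl : Act.lettersOk A.n R = true)
    (hB : ∀ p < A.N, A.chkFix R p = true) (h : ∀ w ∈ R, ev (subGen L) w = 1) : ∀ w ∈ R, ev (pair L A) w = 1 := by
  intro w hw
  refine Subtype.ext ?_
  rw [coe_ev L A w (Act.lt_of_lettersOk hl hw), h w hw, A.ev_rels hA hl hB w hw]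
  rfl

theorem pair_gen : Subgroup.closure {y | ∃ s < A.n, pair L A s = y} = ⊤ := by
  rw [← (Subgroup.map_injective (f := (pairs L A).subtype) (pairs L A).subtype_injective).eq_iff,
    ← MonoidHom.range_eq_map, Subgroup.range_subtype, MonoidHom.map_closure]
  show _ = Subgroup.closure {y | ∃ s < A.n, (subGen L s, A.perm s) = y}
  congr 1
  ext y
  simp only [Set.mem_image, Set.mem_setOf_eq, Subgroup.coe_subtype]
  constructor
  · rintro ⟨x, ⟨s, hs, rfl⟩, rfl⟩
    exact ⟨s, hs, (coe_pair L A hs).symm⟩
  · rintro ⟨s, hs, rfl⟩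
    exact ⟨_, ⟨s, hs, rfl⟩, coe_pair L A hs⟩

/-- The projection to the permutations. -/
noncomputable def pairPerm : pairs L A →* Equiv.Perm (Fin A.N) := (MonoidHom.snd _ _).comp (pairs L A).subtype

theorem hom_pair (hA : ∀ p < A.N, A.chkInv p = true) : A.Hom (pair L A) (pairPerm L A) where
  inv := hA
  gen s := by
    rcases Nat.lt_or_ge s A.n with h | h
    · show (pair L A s : Spor.ON × Equiv.Perm (Fin A.N)).2 = _
      rw [coe_pair L A h]
    · rw [A.perm_out s h]
      simp [pair, Nat.not_lt.2 h]

theorem exists_subgroup [IsSimpleGroup (pairs L A)] (hn : 0 < A.n) (h0 : subGen L 0 ≠ 1) {k : ℕ}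
    (hk : Nat.card (pairs L A) = k) : ∃ K : Subgroup Spor.ON, IsSimpleGroup K ∧ Nat.card K = k := by
  set φ : pairs L A →* Spor.ON := (MonoidHom.fst _ _).comp (pairs L A).subtype with hφ
  have hinj : Function.Injective φ := by
    rw [← MonoidHom.ker_eq_bot_iff]
    refine (IsSimpleGroup.eq_bot_or_eq_top_of_normal φ.ker inferInstance).resolve_right fun h => h0 ?_
    have := MonoidHom.mem_ker.1 (h ▸ Subgroup.mem_top (pair L A 0))
    rwa [hφ, MonoidHom.comp_apply, Subgroup.coe_subtype, coe_pair L A hn] at this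
  refine ⟨φ.range, simple_congr (MonoidHom.ofInjective hinj), ?_⟩
  rw [← hk]
  exact (Nat.card_congr (MonoidHom.ofInjective hinj).toEquiv).symm

end Pair

end Cfsg.Agent.Spor.Cos.ON
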